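import Mathlib
import Cfsg.Agent.Lib.Helper8.PG.Defs
import Cfsg.Agent.Lib.Helper14.OmegaInv

/-!
# PG team project (S2474), package (NEGREFL)

Spinor norm of `-(reflection along v₀)` in odd dimension: if it lies in `Ω` then
`(-1) ^ n * Q v₀` is a square.
-/

set_option autoImplicit false

namespace Cfsg.Agent.Lib.Helper25.PG

open Matrix Cfsg.Agent.Lib.Helper14 Cfsg.Agent.Lib.Helper8.PG

universe u

theorem pkgNegRefl : Cfsg.Agent.Lib.Helper8.PG.PkgNegRefl.{u} := by
  intro F _ _ hq n z hz v₀ hv₀ hfix hneg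
  classical
  have h2 : (2 : F) ≠ 0 := two_ne_zero_of_card_odd hq
  set Q := oddQF n F with hQdef
  have hcoe : ⇑Q = Cfsg.quadFormOdd n F := oddQF_coe n F
  have hQ : (QuadraticMap.polarBilin Q).Nondegenerate := oddQF_nondegenerate n F h2
  -- the list for the hyperbolic pairs
  obtain ⟨l, hl, hlen, hprod, hmat⟩ := hyp_pairs_diag Q n
    (fun j => Sum.inr (Sum.inl j)) (fun j => Sum.inr (Sum.inr j))
    (by rw [hcoe]; exact odd_isHypPair n F)
    (Sum.elim (fun _ => n) (Sum.elim (fun j : Fin n => (j : ℕ)) (fun j : Fin n => (j : ℕ)))) n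
    le_rfl
    (by
      rintro j (i | i | i) hj
      · simp only [Sum.elim_inl, reduceCtorEq, or_self, iff_false]
        omega
      · simp [Fin.ext_iff]
      · simp [Fin.ext_iff])
  set e₀ : OI n → F := Pi.single (Sum.inl ()) 1 with he₀
  have hQe₀ : Q e₀ = 1 := by
    rw [hcoe]; simp [Cfsg.quadFormOdd, he₀]
  have hQv₀ : Q v₀ ≠ 0 := by rw [hcoe]; exact hv₀
  set Z : Matrix (OI n) (OI n) F :=
    ((z : Matrix.GeneralLinearGroup (OI n) F) : Matrix (OI n) (OI n) F) with hZ
  set D : Matrix (OI n) (OI n) F := Matrix.diagonal (fun k =>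
    if (Sum.elim (fun _ => n) (Sum.elim (fun j : Fin n => (j : ℕ)) (fun j : Fin n => (j : ℕ))) k)
      < n then (-1 : F) else 1) with hD
  -- the reflection along `e₀` times `D` is `-1`
  have hneg1 : Cfsg.reflectionMatrix ⇑Q e₀ * D = -1 := by
    rw [ext_iff_mulVec]
    intro y
    rw [← mulVec_mulVec, reflectionMatrix_mulVec, hQe₀, hcoe, he₀, odd_polar_unit,
      neg_mulVec, one_mulVec]
    funext k
    rcases k with k | k | k
    · simp [hD, mulVec_diagonal]
      ring
    · simp [hD, mulVec_diagonal]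
    · simp [hD, mulVec_diagonal]
  -- `Z` is minus the reflection along `v₀`
  have hZr : (-1 : Matrix (OI n) (OI n) F) * Cfsg.reflectionMatrix ⇑Q v₀ = Z := by
    rw [ext_iff_mulVec]
    intro x
    rw [← mulVec_mulVec, reflectionMatrix_mulVec, neg_mulVec, one_mulVec]
    set c : F := (Q v₀)⁻¹ * QuadraticMap.polar ⇑Q v₀ x with hc
    set w : OI n → F := x - (c / 2) • v₀ with hw
    have hpw : QuadraticMap.polar (Cfsg.quadFormOdd n F) v₀ w = 0 := by
      rw [← hcoe, hw, QuadraticMap.polar_sub_right, QuadraticMap.polar_smul_right, polar_self_eq,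
        hc, smul_eq_mul]
      field_simp
      ring
    have hx : x = (c / 2) • v₀ + w := by rw [hw]; abel
    have hZx : Z *ᵥ x = (c / 2) • v₀ - w := by
      conv_lhs => rw [hx]
      rw [mulVec_add, mulVec_smul, hfix, hneg w hpw]
      abel
    rw [hZx, hw]
    have h2c : (c / 2) • v₀ + (c / 2) • v₀ = c • v₀ := by
      rw [← add_smul]; congr 1; field_simp; ring
    rw [← h2c]
    abel
  set L : List (OI n → F) := e₀ :: (l ++ [v₀]) with hL
  have hLne : ∀ u ∈ L, Q u ≠ 0 := by
    intro u hu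
    rw [hL, List.mem_cons, List.mem_append] at hu
    rcases hu with rfl | hu | hu
    · rw [hQe₀]; exact one_ne_zero
    · exact hl u hu
    · rw [List.mem_singleton] at hu
      rw [hu]; exact hQv₀
  have hM : (L.map (Cfsg.reflectionMatrix ⇑Q)).prod = Z := by
    rw [hL, List.map_cons, List.prod_cons, List.map_append, List.prod_append, hmat]
    simp only [List.map_cons, List.map_nil, List.prod_cons, List.prod_nil, mul_one]
    rw [← mul_assoc, hneg1, hZr]
  have key := (exists_mem_omega_iff h2 Q hQ (Cfsg.quadFormOdd n F) hcoe L hLne Z hM).mp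
    ⟨z, hz, rfl⟩
  have hprodL : (L.map ⇑Q).prod = (-1 : F) ^ n * Cfsg.quadFormOdd n F v₀ := by
    rw [hL, List.map_cons, List.prod_cons, List.map_append, List.prod_append, hprod, hQe₀]
    simp only [List.map_cons, List.map_nil, List.prod_cons, List.prod_nil, mul_one, one_mul]
    rw [hcoe]
  rw [← hprodL]
  exact key.2

end Cfsg.Agent.Lib.Helper25.PG
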